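import Mathlib

/-!
# The 2-elements of `S₆` (S4842, helper845)
-/

set_option autoImplicit false

namespace Cfsg.Agent.H845.OZ

/-- The cycle types of the 2-elements of `S₆`. -/
theorem six_types {σ : Equiv.Perm (Fin 6)} (h : σ ^ 2 ^ 4 = 1) :
    σ.cycleType = 0 ∨ σ.cycleType = {2, 2} ∨ σ.cycleType = {4, 2} ∨
      σ.cycleType = {2} ∨ σ.cycleType = {2, 2, 2} ∨ σ.cycleType = {4} := by
  have hsum : σ.cycleType.sum ≤ 6 := by simpa using σ.sum_cycleType_le
  have hmem : ∀ n ∈ σ.cycleType, n = 2 ∨ n = 4 := by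
    intro n hn
    have h1 : n ∣ 2 ^ 4 :=
      (Equiv.Perm.dvd_of_mem_cycleType hn).trans (orderOf_dvd_of_pow_eq_one h)
    have h2 : 2 ≤ n := Equiv.Perm.two_le_of_mem_cycleType hn
    have h3 : n ≤ 6 := (Multiset.le_sum_of_mem hn).trans hsum
    interval_cases n <;> first | (left; rfl) | (right; rfl) | (exfalso; revert h1; decide)
  set m := σ.cycleType with hm
  obtain ⟨a, b, hab⟩ : ∃ a b : ℕ, m = Multiset.replicate a 4 + Multiset.replicate b 2 := by
    refine ⟨m.count 4, m.count 2, Multiset.ext.2 fun n => ?_⟩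
    rw [Multiset.count_add, Multiset.count_replicate, Multiset.count_replicate]
    by_cases h4 : n = 4
    · subst h4; simp
    · by_cases h2 : n = 2
      · subst h2; simp
      · rw [if_neg (fun hh => h4 hh.symm), if_neg (fun hh => h2 hh.symm)]
        exact Multiset.count_eq_zero.2 fun hn => (hmem n hn).elim h2 h4
  have hs : 4 * a + 2 * b ≤ 6 := by
    rw [hab] at hsum
    simpa [mul_comm] using hsum
  have ha : a ≤ 1 := by omega
  have hb : b ≤ 3 := by omega
  rw [hab]
  interval_cases a <;> interval_cases b <;> first | omega | decide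

theorem six_card (m : Multiset ℕ) (k : ℕ) (h : m.sum ≤ 6 ∧ ∀ a ∈ m, 2 ≤ a)
    (hk : Nat.factorial 6 / (Nat.factorial (6 - m.sum) * m.prod *
      (∏ n ∈ m.toFinset, Nat.factorial (m.count n))) = k) :
    (Finset.univ.filter (fun σ : Equiv.Perm (Fin 6) => σ.cycleType = m)).card = k := by
  rw [Equiv.Perm.card_of_cycleType, if_pos (by simpa using h), ← hk, Fintype.card_fin]

theorem six_pow {σ : Equiv.Perm (Fin 6)} {m : Multiset ℕ} (hm : ∀ n ∈ m, n ∣ 2 ^ 4)
    (h : σ.cycleType = m) : σ ^ 2 ^ 4 = 1 := by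
  apply orderOf_dvd_iff_pow_eq_one.1
  rw [← Equiv.Perm.lcm_cycleType, h]
  exact Multiset.lcm_dvd.2 hm

theorem card_even : (Finset.univ.filter (fun σ : Equiv.Perm (Fin 6) =>
    σ ^ 2 ^ 4 = 1 ∧ Equiv.Perm.sign σ = 1)).card = 136 := by
  have e : Finset.univ.filter (fun σ : Equiv.Perm (Fin 6) =>
      σ ^ 2 ^ 4 = 1 ∧ Equiv.Perm.sign σ = 1) =
      (Finset.univ.filter (fun σ : Equiv.Perm (Fin 6) => σ.cycleType = 0)) ∪
      ((Finset.univ.filter (fun σ : Equiv.Perm (Fin 6) => σ.cycleType = {2, 2})) ∪
      (Finset.univ.filter (fun σ : Equiv.Perm (Fin 6) => σ.cycleType = {4, 2}))) := by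
    ext σ
    simp only [Finset.mem_union, Finset.mem_filter, Finset.mem_univ, true_and]
    constructor
    · rintro ⟨h, hs⟩
      rw [Equiv.Perm.sign_of_cycleType] at hs
      rcases six_types h with h | h | h | h | h | h
      · exact Or.inl h
      · exact Or.inr (Or.inl h)
      · exact Or.inr (Or.inr h)
      all_goals
        rw [h] at hs
        exact absurd hs (by decide)
    · rintro (h | h | h)
      all_goals
        refine ⟨six_pow (by decide) h, ?_⟩
        rw [Equiv.Perm.sign_of_cycleType, h]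
        decide
  rw [e, Finset.card_union_of_disjoint, Finset.card_union_of_disjoint,
    six_card 0 1 (by decide) (by decide), six_card {2, 2} 45 (by decide) (by decide),
    six_card {4, 2} 90 (by decide) (by decide)]
  · rw [Finset.disjoint_filter]
    intro σ _ h1 h2
    rw [h1] at h2
    exact absurd h2 (by decide)
  · rw [Finset.disjoint_union_right, Finset.disjoint_filter, Finset.disjoint_filter]
    refine ⟨fun σ _ h1 h2 => ?_, fun σ _ h1 h2 => ?_⟩
    all_goals
      rw [h1] at h2
      exact absurd h2 (by decide)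

theorem card_odd : (Finset.univ.filter (fun σ : Equiv.Perm (Fin 6) =>
    σ ^ 2 ^ 4 = 1 ∧ ¬ Equiv.Perm.sign σ = 1)).card = 120 := by
  have e : Finset.univ.filter (fun σ : Equiv.Perm (Fin 6) =>
      σ ^ 2 ^ 4 = 1 ∧ ¬ Equiv.Perm.sign σ = 1) =
      (Finset.univ.filter (fun σ : Equiv.Perm (Fin 6) => σ.cycleType = {2})) ∪
      ((Finset.univ.filter (fun σ : Equiv.Perm (Fin 6) => σ.cycleType = {2, 2, 2})) ∪
      (Finset.univ.filter (fun σ : Equiv.Perm (Fin 6) => σ.cycleType = {4}))) := by
    ext σ
    simp only [Finset.mem_union, Finset.mem_filter, Finset.mem_univ, true_and]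
    constructor
    · rintro ⟨h, hs⟩
      rw [Equiv.Perm.sign_of_cycleType] at hs
      rcases six_types h with h | h | h | h | h | h
      · exact absurd (by rw [h]; decide) hs
      · exact absurd (by rw [h]; decide) hs
      · exact absurd (by rw [h]; decide) hs
      · exact Or.inl h
      · exact Or.inr (Or.inl h)
      · exact Or.inr (Or.inr h)
    · rintro (h | h | h)
      all_goals
        refine ⟨six_pow (by decide) h, ?_⟩
        rw [Equiv.Perm.sign_of_cycleType, h]
        decide
  rw [e, Finset.card_union_of_disjoint, Finset.card_union_of_disjoint,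
    six_card {2} 15 (by decide) (by decide), six_card {2, 2, 2} 15 (by decide) (by decide),
    six_card {4} 90 (by decide) (by decide)]
  · rw [Finset.disjoint_filter]
    intro σ _ h1 h2
    rw [h1] at h2
    exact absurd h2 (by decide)
  · rw [Finset.disjoint_union_right, Finset.disjoint_filter, Finset.disjoint_filter]
    refine ⟨fun σ _ h1 h2 => ?_, fun σ _ h1 h2 => ?_⟩
    all_goals
      rw [h1] at h2
      exact absurd h2 (by decide)

end Cfsg.Agent.H845.OZ
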