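import Cfsg.Agent.H730.OZ.Defs
import Cfsg.Agent.H845.OZ.SixCard

/-!
# The sum of a linear character over the `p`-elements; `S₆` (S4842, helper845)

* `psum p f` : the sum of the linear character `f` over the elements of `p`-power order;
* `psum_perm` : `256` or `16` for `S₆`, `p = 2`.
-/

set_option autoImplicit false
set_option linter.unusedSectionVars false

open Cfsg

namespace Cfsg.Agent.H845.OZ

open Cfsg.Agent.H730.OZ

universe u v w

/-- the sum of a linear character over the elements of `p`-power order -/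
noncomputable def psum (p : ℕ) {G : Type u} [Group G] (f : G →* ℂˣ) : ℂ := ∑ᶠ g ∈ pSet p G, ((f g : ℂˣ) : ℂ)

theorem psum_congr (p : ℕ) {G : Type u} {H : Type v} [Group G] [Group H] (e : G ≃* H) (f : G →* ℂˣ) :
    psum p f = psum p (f.comp e.symm.toMonoidHom) := by
  refine finsum_mem_eq_of_bijOn e ⟨?_, e.injective.injOn, ?_⟩ ?_
  · rintro x ⟨k, hk⟩
    exact ⟨k, by rw [← hk]; exact MulEquiv.orderOf_eq e x⟩
  · rintro x ⟨k, hk⟩
    refine ⟨e.symm x, ⟨k, ?_⟩, e.apply_symm_apply x⟩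
    rw [← hk]
    exact MulEquiv.orderOf_eq e.symm x
  · intro x _
    change _ = ((f (e.symm (e x)) : ℂˣ) : ℂ)
    rw [e.symm_apply_apply]

theorem mem_pSet_iff {G : Type u} [Group G] [Finite G] {p N m : ℕ} (hp : p.Prime) (hG : Nat.card G = p ^ N * m)
    (hm : ¬ p ∣ m) (g : G) : g ∈ pSet p G ↔ g ^ p ^ N = 1 := by
  constructor
  · rintro ⟨k, hk⟩
    have h1 : p ^ k ∣ p ^ N * m := by
      rw [← hk, ← hG]
      exact orderOf_dvd_natCard g
    have h2 : p ^ k ∣ p ^ N :=
      (Nat.Coprime.pow_left k ((Nat.Prime.coprime_iff_not_dvd hp).2 hm)).dvd_of_dvd_mul_right h1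
    rw [← orderOf_dvd_iff_pow_eq_one, hk]
    exact h2
  · intro h
    obtain ⟨k, -, hk⟩ := (Nat.dvd_prime_pow hp).1 (orderOf_dvd_of_pow_eq_one h)
    exact ⟨k, hk⟩

theorem psum_eq {G : Type u} [Group G] [Fintype G] [DecidableEq G] {p N m : ℕ} (hp : p.Prime)
    (hG : Nat.card G = p ^ N * m) (hm : ¬ p ∣ m) (f : G →* ℂˣ) :
    psum p f = ∑ g ∈ Finset.univ.filter (fun g : G => g ^ p ^ N = 1), ((f g : ℂˣ) : ℂ) := by
  have h1 : pSet p G = ((Finset.univ.filter (fun g : G => g ^ p ^ N = 1) : Finset G) : Set G) := by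
    ext g
    rw [mem_pSet_iff hp hG hm]
    simp
  rw [psum, h1, finsum_mem_coe_finset]

theorem sq_units {c : ℂˣ} (h : c ^ 2 = 1) : ((c : ℂˣ) : ℂ) = 1 ∨ ((c : ℂˣ) : ℂ) = -1 := by
  have h1 : ((c : ℂˣ) : ℂ) ^ 2 = 1 := by rw [← Units.val_pow_eq_pow_val, h, Units.val_one]
  rw [sq] at h1
  exact mul_self_eq_one_iff.1 h1

/-! ### `S₆` -/

theorem lin_perm (f : Equiv.Perm (Fin 6) →* ℂˣ) :
    ∃ c : ℂˣ, c ^ 2 = 1 ∧ ∀ σ, f σ = if Equiv.Perm.sign σ = 1 then 1 else c := by
  let s : Equiv.Perm (Fin 6) := Equiv.swap 0 1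
  have hs : ∀ x y : Fin 6, x ≠ y → f (Equiv.swap x y) = f s := by
    intro x y hxy
    obtain ⟨g, hg⟩ := isConj_iff.1 (Equiv.Perm.isConj_swap hxy (show (0 : Fin 6) ≠ 1 by decide))
    have h1 := congrArg f hg
    rw [map_mul, map_mul, map_inv, mul_comm, inv_mul_cancel_left] at h1
    exact h1
  have hc : f s ^ 2 = 1 := by
    rw [← map_pow, sq, Equiv.swap_mul_self, map_one]
  refine ⟨f s, hc, fun σ => ?_⟩
  refine Equiv.Perm.swap_induction_on (motive := fun σ => f σ = if Equiv.Perm.sign σ = 1 then 1 else f s) σ ?_ ?_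
  · rw [map_one, map_one, if_pos rfl]
  · intro τ x y hxy ih
    rw [map_mul, ih, hs x y hxy, map_mul, Equiv.Perm.sign_swap hxy]
    rcases Int.units_eq_one_or (Equiv.Perm.sign τ) with h | h
    · rw [h, if_pos rfl, if_neg (by decide), mul_one]
    · rw [h, if_neg (by decide), if_pos (by decide), ← sq, hc]

theorem psum_perm (f : Equiv.Perm (Fin 6) →* ℂˣ) : psum 2 f = 256 ∨ psum 2 f = 16 := by
  obtain ⟨c, hc, hf⟩ := lin_perm f
  have hcard : Nat.card (Equiv.Perm (Fin 6)) = 2 ^ 4 * 45 := by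
    rw [Nat.card_eq_fintype_card, Fintype.card_perm, Fintype.card_fin]
    decide
  have h1 : psum 2 f = 136 + 120 * (c : ℂ) := by
    rw [psum_eq Nat.prime_two hcard (by norm_num) f,
      ← Finset.sum_filter_add_sum_filter_not _ (fun σ : Equiv.Perm (Fin 6) => Equiv.Perm.sign σ = 1),
      Finset.filter_filter, Finset.filter_filter]
    refine congrArg₂ (· + ·) ?_ ?_
    · rw [Finset.sum_congr rfl (g := fun _ => (1 : ℂ)), Finset.sum_const, card_even]
      · norm_num
      · intro σ hσ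
        rw [hf, if_pos (Finset.mem_filter.1 hσ).2.2, Units.val_one]
    · rw [Finset.sum_congr rfl (g := fun _ => (c : ℂ)), Finset.sum_const, card_odd]
      · norm_num
      · intro σ hσ
        rw [hf, if_neg (Finset.mem_filter.1 hσ).2.2]
  rcases sq_units hc with h | h
  · left; rw [h1, h]; norm_num
  · right; rw [h1, h]; norm_num

end Cfsg.Agent.H845.OZ
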