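import Cfsg.Agent.H845.OZ.SpW
import Cfsg.Agent.H845.OZ.SpSix
import Cfsg.Agent.S0244

/-!
# Linear characters of `Sp₂(2)`, `Sp₂(3)`, `Sp₄(2)`: the sum over the `p`-elements (S4842, helper845)

* `psum_12` : `4` or `-2`; `psum_13` : `9` or `-3`; `psum_22` : `256` or `16`.
-/

set_option autoImplicit false
set_option linter.unusedSectionVars false

open Cfsg

namespace Cfsg.Agent.H845.OZ

open Module Cfsg.Agent.H477.HC Cfsg.Agent.H477.OZ Cfsg.Agent.H730.OZ

universe u v w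

/-! ### `SL₂(2)`, `SL₂(3)` -/

/-- `SL₂(2)` -/
abbrev G2 := Matrix.SpecialLinearGroup (Fin 2) (ZMod 2)
/-- `SL₂(3)` -/
abbrev G3 := Matrix.SpecialLinearGroup (Fin 2) (ZMod 3)

/-- a transvection -/
def t2 : G2 := ⟨!![1, 1; 0, 1], by decide⟩
/-- a transvection -/
def t3 : G3 := ⟨!![1, 1; 0, 1], by decide⟩

theorem G2_a : ∀ g : G2, g ^ 2 ^ 1 = 1 → g = 1 ∨ ∃ h : G2, h * t2 * h⁻¹ = g := by decide +kernel
theorem G2_c : (Finset.univ.filter (fun g : G2 => g ^ 2 ^ 1 = 1 ∧ ¬ g = 1)).card = 3 := by decide +kernel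
theorem G2_card : Fintype.card G2 = 6 := by decide +kernel
theorem G2_t : t2 ^ 2 = 1 := by decide +kernel
theorem G3_a : ∀ g : G3, g ^ 3 ^ 1 = 1 → g = 1 ∨ (∃ h : G3, h * t3 * h⁻¹ = g) ∨
    (∃ h : G3, h * t3⁻¹ * h⁻¹ = g) := by decide +kernel
theorem G3_c : (Finset.univ.filter (fun g : G3 => g ^ 3 ^ 1 = 1 ∧ ∃ h : G3, h * t3 * h⁻¹ = g)).card = 4 := by
  decide +kernel
theorem G3_d : (Finset.univ.filter (fun g : G3 => (g ^ 3 ^ 1 = 1 ∧ ¬ ∃ h : G3, h * t3 * h⁻¹ = g) ∧ ¬ g = 1)).card = 4 := by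
  decide +kernel
theorem G3_e : (Finset.univ.filter (fun g : G3 => (g ^ 3 ^ 1 = 1 ∧ ¬ ∃ h : G3, h * t3 * h⁻¹ = g) ∧ g = 1)).card = 1 := by
  decide +kernel
theorem G3_card : Fintype.card G3 = 24 := by decide +kernel
theorem G3_t : t3 ^ 3 = 1 := by decide +kernel

theorem conj_eq {G : Type u} [Group G] (f : G →* ℂˣ) (h t : G) : f (h * t * h⁻¹) = f t := by
  rw [map_mul, map_mul, map_inv, mul_comm, inv_mul_cancel_left]

theorem psum_G2 (f : G2 →* ℂˣ) : psum 2 f = 4 ∨ psum 2 f = -2 := by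
  have hcard : Nat.card G2 = 2 ^ 1 * 3 := by
    rw [Nat.card_eq_fintype_card, G2_card]
    norm_num
  have h1 : psum 2 f = 1 + 3 * (f t2 : ℂ) := by
    rw [psum_eq Nat.prime_two hcard (by norm_num) f,
      ← Finset.sum_filter_add_sum_filter_not _ (fun g : G2 => g = 1), Finset.filter_filter, Finset.filter_filter]
    congr 1
    · have h2 : (Finset.univ.filter (fun g : G2 => g ^ 2 ^ 1 = 1 ∧ g = 1)) = {1} := by
        ext g
        simp only [Finset.mem_filter, Finset.mem_univ, true_and, Finset.mem_singleton]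
        constructor
        · exact fun h => h.2
        · rintro rfl
          exact ⟨one_pow _, rfl⟩
      rw [h2, Finset.sum_singleton, map_one, Units.val_one]
    · rw [Finset.sum_congr rfl (g := fun _ => (f t2 : ℂ)), Finset.sum_const, G2_c]
      · norm_num
      · intro g hg
        obtain ⟨h, rfl⟩ := (G2_a g (Finset.mem_filter.1 hg).2.1).resolve_left (Finset.mem_filter.1 hg).2.2
        rw [conj_eq]
  have hc : f t2 ^ 2 = 1 := by rw [← map_pow, G2_t, map_one]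
  rcases sq_units hc with h | h
  · left; rw [h1, h]; norm_num
  · right; rw [h1, h]; norm_num

theorem psum_G3 (f : G3 →* ℂˣ) : psum 3 f = 9 ∨ psum 3 f = -3 := by
  have hcard : Nat.card G3 = 3 ^ 1 * 8 := by
    rw [Nat.card_eq_fintype_card, G3_card]
    norm_num
  have h1 : psum 3 f = 4 * (f t3 : ℂ) + (1 + 4 * ((f t3)⁻¹ : ℂˣ)) := by
    rw [psum_eq Nat.prime_three hcard (by norm_num) f,
      ← Finset.sum_filter_add_sum_filter_not _ (fun g : G3 => ∃ h : G3, h * t3 * h⁻¹ = g), Finset.filter_filter,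
      Finset.filter_filter]
    congr 1
    · rw [Finset.sum_congr rfl (g := fun _ => (f t3 : ℂ)), Finset.sum_const, G3_c]
      · norm_num
      · intro g hg
        obtain ⟨h, rfl⟩ := (Finset.mem_filter.1 hg).2.2
        rw [conj_eq]
    · rw [← Finset.sum_filter_add_sum_filter_not _ (fun g : G3 => g = 1), Finset.filter_filter, Finset.filter_filter]
      congr 1
      · rw [Finset.sum_congr rfl (g := fun _ => (1 : ℂ)), Finset.sum_const, G3_e]
        · norm_num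
        · intro g hg
          rw [(Finset.mem_filter.1 hg).2.2, map_one, Units.val_one]
      · rw [Finset.sum_congr rfl (g := fun _ => (((f t3)⁻¹ : ℂˣ) : ℂ)), Finset.sum_const, G3_d]
        · norm_num
        · intro g hg
          obtain ⟨⟨h2, h3⟩, h4⟩ := (Finset.mem_filter.1 hg).2
          obtain ⟨h, rfl⟩ := ((G3_a g h2).resolve_left h4).resolve_left h3
          rw [conj_eq, map_inv]
  have hc : (f t3 : ℂ) ^ 3 = 1 := by
    rw [← Units.val_pow_eq_pow_val, ← map_pow, G3_t, map_one, Units.val_one]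
  have h0 : (f t3 : ℂ) ≠ 0 := Units.ne_zero _
  have hi : (((f t3)⁻¹ : ℂˣ) : ℂ) = (f t3 : ℂ) ^ 2 := by
    rw [Units.val_inv_eq_inv_val]
    field_simp
    exact hc.symm
  rw [h1, hi]
  by_cases h : (f t3 : ℂ) = 1
  · left; rw [h]; norm_num
  · right
    have h2 : (f t3 : ℂ) ^ 2 + (f t3 : ℂ) + 1 = 0 := by
      have h3 : ((f t3 : ℂ) - 1) * ((f t3 : ℂ) ^ 2 + (f t3 : ℂ) + 1) = 0 := by
        linear_combination hc
      exact (mul_eq_zero.1 h3).resolve_left (sub_ne_zero.2 h)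
    linear_combination 4 * h2

/-- `Sp₂ = SL₂` -/
def spTwo (F : Type u) [Field F] : Matrix.symplecticGroup (Fin 1) F ≃* Matrix.SpecialLinearGroup (Fin 2) F where
  toFun A := ⟨Matrix.reindex finSumFinEquiv finSumFinEquiv (A : Matrix (Fin 1 ⊕ Fin 1) (Fin 1 ⊕ Fin 1) F), by
    rw [Matrix.det_reindex_self]
    exact (S0244.result _).1 A.2⟩
  invFun A := ⟨Matrix.reindex finSumFinEquiv.symm finSumFinEquiv.symm (A : Matrix (Fin 2) (Fin 2) F), by
    rw [S0244.result, Matrix.det_reindex_self]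
    exact A.2⟩
  left_inv A := by
    apply Subtype.ext
    ext i j
    simp
  right_inv A := by
    apply Subtype.ext
    ext i j
    simp
  map_mul' A B := by
    apply Subtype.ext
    change Matrix.reindex finSumFinEquiv finSumFinEquiv (A.1 * B.1) =
      Matrix.reindex finSumFinEquiv finSumFinEquiv A.1 * Matrix.reindex finSumFinEquiv finSumFinEquiv B.1
    rw [Matrix.reindex_apply, Matrix.reindex_apply, Matrix.reindex_apply, Matrix.submatrix_mul_equiv]

section general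

variable {K : Type u} [Field K] {V : Type v} [AddCommGroup V] [Module K V] (F : CForm K V)

/-- **`Sp₂(2)`** -/
theorem psum_12 [Finite K] [FiniteDimensional K V] {W U : Submodule K V} (hc : IsCompl U W)
    (ho : ∀ u ∈ U, ∀ w ∈ W, F.B u w = 0) (hσ : ∀ a, F.σ a = a) (hQ : ∀ v, F.Q v = 0)
    (hd : finrank K W = 2) {L : Subgroup F.iso} (hL : ∀ g : F.iso, g ∈ L ↔ ∀ u ∈ U, (g : V ≃ₗ[K] V) u = u)
    (hK : Nat.card K = 2) (f : L →* ℂˣ) : psum 2 f = 4 ∨ psum 2 f = -2 := by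
  obtain ⟨e⟩ := exists_equiv_sp F hc ho hσ hQ (k := 1) hd hL
  have := Fintype.ofFinite K
  rw [Nat.card_eq_fintype_card] at hK
  let e' := (e.trans (LieClassical.SpFourTwo.symplecticCongr (ZMod.ringEquivOfPrime K Nat.prime_two hK).symm)).trans
    (spTwo (ZMod 2))
  rw [psum_congr 2 e' f]
  exact psum_G2 _

/-- **`Sp₂(3)`** -/
theorem psum_13 [Finite K] [FiniteDimensional K V] {W U : Submodule K V} (hc : IsCompl U W)
    (ho : ∀ u ∈ U, ∀ w ∈ W, F.B u w = 0) (hσ : ∀ a, F.σ a = a) (hQ : ∀ v, F.Q v = 0)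
    (hd : finrank K W = 2) {L : Subgroup F.iso} (hL : ∀ g : F.iso, g ∈ L ↔ ∀ u ∈ U, (g : V ≃ₗ[K] V) u = u)
    (hK : Nat.card K = 3) (f : L →* ℂˣ) : psum 3 f = 9 ∨ psum 3 f = -3 := by
  obtain ⟨e⟩ := exists_equiv_sp F hc ho hσ hQ (k := 1) hd hL
  have := Fintype.ofFinite K
  rw [Nat.card_eq_fintype_card] at hK
  let e' := (e.trans (LieClassical.SpFourTwo.symplecticCongr (ZMod.ringEquivOfPrime K Nat.prime_three hK).symm)).trans
    (spTwo (ZMod 3))
  rw [psum_congr 3 e' f]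
  exact psum_G3 _

/-- **`Sp₄(2)`** -/
theorem psum_22 [Finite K] [FiniteDimensional K V] {W U : Submodule K V} (hc : IsCompl U W)
    (ho : ∀ u ∈ U, ∀ w ∈ W, F.B u w = 0) (hσ : ∀ a, F.σ a = a) (hQ : ∀ v, F.Q v = 0)
    (hd : finrank K W = 4) {L : Subgroup F.iso} (hL : ∀ g : F.iso, g ∈ L ↔ ∀ u ∈ U, (g : V ≃ₗ[K] V) u = u)
    (hK : Nat.card K = 2) (f : L →* ℂˣ) : psum 2 f = 256 ∨ psum 2 f = 16 := by
  obtain ⟨e⟩ := exists_equiv_sp F hc ho hσ hQ (k := 2) hd hL
  have := Fintype.ofFinite K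
  rw [Nat.card_eq_fintype_card] at hK
  obtain ⟨e2⟩ := LieClassical.SpFourTwo.nonempty_equiv_perm hK
  rw [psum_congr 2 (e.trans e2) f]
  exact psum_perm _

end general

end Cfsg.Agent.H845.OZ
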